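import Cfsg.Agent.FGSB.ThreeCounts
import Mathlib.GroupTheory.Sylow
import Mathlib.GroupTheory.PGroup

/-!
Numbers of elements of given order: counting lemmas.
-/

set_option autoImplicit false
set_option linter.style.haveILetI false

open Subgroup CfsgLib.ThreeCounts

namespace CfsgLib.Nse

variable {G : Type*} [Group G] [Finite G]

theorem dvd_of_cnt {m : ℕ} (h : cnt G m ≠ 0) : m ∣ Nat.card G := by
  obtain ⟨g, rfl⟩ := cnt_pos_iff.1 h
  exact orderOf_dvd_natCard g

theorem cnt_zero_of_dvd {d m : ℕ} (hdm : d ∣ m) (h : cnt G d = 0) : cnt G m = 0 := by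
  by_contra hm
  obtain ⟨g, hg⟩ := cnt_pos_iff.1 hm
  refine cnt_pos_iff.2 ⟨g ^ (m / d), ?_⟩ h
  have hm0 : m ≠ 0 := hg ▸ (orderOf_pos g).ne'
  rw [orderOf_pow, hg, Nat.gcd_eq_right (Nat.div_dvd_of_dvd hdm), Nat.div_div_self hdm hm0]

theorem frob {n : ℕ} (hn : n ∣ Nat.card G) : n ∣ ∑ d ∈ n.divisors, cnt G d := by
  rw [← card_pow_eq_one n (ne_zero_of_dvd_ne_zero Nat.card_pos.ne' hn)]
  exact CfsgLib.FrobCount.frobenius hn

theorem card_eq_sum_of (T : Finset ℕ) (h : ∀ g : G, orderOf g ∈ T) :
    Nat.card G = ∑ d ∈ T, cnt G d := by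
  classical
  haveI := Fintype.ofFinite G
  rw [Nat.card_eq_fintype_card, ← Finset.card_univ,
    Finset.card_eq_sum_card_fiberwise (f := orderOf) (t := T) (fun g _ => h g)]
  refine Finset.sum_congr rfl fun d _ => ?_
  rw [cnt, Nat.card_eq_fintype_card, Fintype.card_subtype]

theorem sum_values_le (V : Finset ℕ) (h : ∀ v ∈ V, ∃ m, cnt G m = v) (h0 : 0 ∉ V) :
    ∑ v ∈ V, v ≤ Nat.card G := by
  classical
  choose! f hf using h
  have hinj : Set.InjOn f V := fun a ha b hb e => by rw [← hf a ha, e, hf b hb]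
  rw [card_eq_sum_of (Nat.card G).divisors fun g => Nat.mem_divisors.2 ⟨orderOf_dvd_natCard g, Nat.card_pos.ne'⟩]
  calc ∑ v ∈ V, v = ∑ v ∈ V, cnt G (f v) := Finset.sum_congr rfl fun v hv => (hf v hv).symm
    _ = ∑ d ∈ V.image f, cnt G d := (Finset.sum_image hinj).symm
    _ ≤ _ := Finset.sum_le_sum_of_subset fun d hd => by
      obtain ⟨v, hv, rfl⟩ := Finset.mem_image.1 hd
      exact Nat.mem_divisors.2 ⟨dvd_of_cnt (by rw [hf v hv]; exact fun e => h0 (e ▸ hv)), Nat.card_pos.ne'⟩

theorem orderOf_lift {p k j : ℕ} [hp : Fact p.Prime] {z w : G} (hj : 1 ≤ j) (hjk : j ≤ k)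
    (hz : z ^ p ^ k = 1) (hzw : z ^ p ^ (k - j) = w) (hw : orderOf w = p ^ j) : orderOf z = p ^ k := by
  refine (orderOf_eq_prime_pow (n := k - 1) (fun h => ?_) (by rwa [show k - 1 + 1 = k by omega])).trans
    (by rw [show k - 1 + 1 = k by omega])
  have h3 : w ^ p ^ (j - 1) = 1 := by
    rw [← hzw, ← pow_mul, ← pow_add, show k - j + (j - 1) = k - 1 by omega, h]
  have := Nat.le_of_dvd (Nat.pow_pos hp.out.pos) (hw ▸ orderOf_dvd_of_pow_eq_one h3)
  exact absurd this (not_le.2 (Nat.pow_lt_pow_right hp.out.one_lt (by omega)))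

/-- In a cyclic Sylow subgroup of order `p^k` the elements of order `p^k` are at least
`p^(k-j)` times as many as those of order `p^j`. -/
theorem cnt_cyclic_le {p k j : ℕ} [hp : Fact p.Prime] (hk : (Nat.card G).factorization p = k)
    (hc : cnt G (p ^ k) ≠ 0) (hj : 1 ≤ j) (hjk : j ≤ k) :
    cnt G (p ^ j) * p ^ (k - j) ≤ cnt G (p ^ k) := by
  classical
  haveI := Fintype.ofFinite G
  obtain ⟨x, hx⟩ := cnt_pos_iff.1 hc
  let P : Sylow p G := Sylow.ofCard (zpowers x) (by rw [Nat.card_zpowers, hx, hk])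
  let A : Finset G := Finset.univ.filter fun g => orderOf g = p ^ k
  let B : Finset G := Finset.univ.filter fun g => orderOf g = p ^ j
  have hA : A.card = cnt G (p ^ k) := by
    rw [cnt, Nat.card_eq_fintype_card, Fintype.card_subtype]
  have hB : B.card = cnt G (p ^ j) := by
    rw [cnt, Nat.card_eq_fintype_card, Fintype.card_subtype]
  rw [← hA, ← hB, mul_comm]
  refine Finset.mul_card_image_le_card_of_maps_to (f := fun z : G => z ^ p ^ (k - j)) ?_ _ ?_
  · intro z hz
    simp only [A, B, Finset.mem_filter, Finset.mem_univ, true_and] at hz ⊢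
    rw [orderOf_pow, hz, Nat.gcd_eq_right (pow_dvd_pow p (Nat.sub_le k j)),
      Nat.pow_div (Nat.sub_le k j) hp.out.pos, Nat.sub_sub_self hjk]
  · intro y hy
    simp only [B, Finset.mem_filter, Finset.mem_univ, true_and] at hy
    obtain ⟨Q, hQ⟩ := (IsPGroup.of_card (n := j) (G := zpowers y) (by rw [Nat.card_zpowers, hy])).exists_le_sylow
    obtain ⟨g, hg⟩ := MulAction.exists_smul_eq G P Q
    have hy' : g⁻¹ * y * g ∈ zpowers x := by
      have h1 : y ∈ (g • P : Sylow p G) := hg ▸ hQ (mem_zpowers y)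
      rw [Sylow.smul_def] at h1
      obtain ⟨w, hw, hwy⟩ := h1
      simp only [MulDistribMulAction.toMonoidEnd_apply, MulDistribMulAction.toMonoidHom_apply] at hwy
      rw [← hwy]
      show g⁻¹ * (g * w * g⁻¹) * g ∈ zpowers x
      simpa [P, mul_assoc] using hw
    -- a generator `z` above `g⁻¹ y g`
    have hord : orderOf (g⁻¹ * y * g) = p ^ j := by
      rw [← hy]
      have := MulAut.conj g⁻¹ |>.orderOf_eq y
      simpa using this
    obtain ⟨z, hz, hzy⟩ : ∃ z : G, orderOf z = p ^ k ∧ z ^ p ^ (k - j) = g⁻¹ * y * g := by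
      obtain ⟨n, hn⟩ := mem_zpowers_iff.1 hy'
      have hdiv : (p : ℤ) ^ (k - j) ∣ n := by
        have h1 : (g⁻¹ * y * g) ^ (p ^ j) = 1 := by rw [← hord, pow_orderOf_eq_one]
        rw [← hn, ← zpow_natCast, ← zpow_mul, ← orderOf_dvd_iff_zpow_eq_one, hx] at h1
        push_cast at h1
        rw [show (p : ℤ) ^ k = (p : ℤ) ^ (k - j) * (p : ℤ) ^ j by rw [← pow_add, Nat.sub_add_cancel hjk]] at h1
        exact (mul_dvd_mul_iff_right (pow_ne_zero j (by exact_mod_cast hp.out.ne_zero))).1 h1
      obtain ⟨m, rfl⟩ := hdiv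
      have h2 : (x ^ m) ^ p ^ (k - j) = g⁻¹ * y * g := by
        rw [← hn, ← zpow_natCast, ← zpow_mul]; push_cast; ring_nf
      refine ⟨x ^ m, orderOf_lift hj hjk ?_ h2 hord, h2⟩
      rw [← zpow_natCast, ← zpow_mul, mul_comm, zpow_mul, zpow_natCast, ← hx, pow_orderOf_eq_one, one_zpow]
    -- the fibre over `y`
    let u := z ^ (p ^ j)
    have hu : orderOf u = p ^ (k - j) := by
      rw [orderOf_pow, hz, Nat.gcd_eq_right (pow_dvd_pow p hjk), Nat.pow_div hjk hp.out.pos]
    let e : Fin (p ^ (k - j)) → G := fun i => g * (z * u ^ (i : ℕ)) * g⁻¹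
    have he : Function.Injective e := fun a b h => by
      have h1 := mul_left_cancel (mul_left_cancel (mul_right_cancel h))
      exact Fin.ext (pow_injOn_Iio_orderOf (by rw [Set.mem_Iio, hu]; exact a.2)
        (by rw [Set.mem_Iio, hu]; exact b.2) h1)
    calc p ^ (k - j) = (Finset.univ.image e).card := by
          rw [Finset.card_image_of_injective _ he, Finset.card_univ, Fintype.card_fin]
      _ ≤ _ := Finset.card_le_card fun w hw => by
          obtain ⟨i, -, rfl⟩ := Finset.mem_image.1 hw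
          have hcomm : Commute z (u ^ (i : ℕ)) := ((Commute.refl z).pow_right _).pow_right _
          have hup : (u ^ (i : ℕ)) ^ p ^ (k - j) = 1 := by
            rw [← pow_mul, mul_comm (i : ℕ), pow_mul, ← congrArg (u ^ ·) hu, pow_orderOf_eq_one, one_pow]
          have hp1 : (z * u ^ (i : ℕ)) ^ p ^ (k - j) = g⁻¹ * y * g := by
            rw [hcomm.mul_pow, hzy, hup, mul_one]
          have hconj : ((e i) ^ p ^ (k - j)) = y := by
            show (g * (z * u ^ (i : ℕ)) * g⁻¹) ^ _ = y
            rw [conj_pow, hp1]; group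
          simp only [A, Finset.mem_filter, Finset.mem_univ, true_and]
          refine ⟨?_, hconj⟩
          have ho : orderOf (e i) = orderOf (z * u ^ (i : ℕ)) := (MulAut.conj g).orderOf_eq _
          rw [ho]
          refine orderOf_lift hj hjk ?_ hp1 hord
          rw [hcomm.mul_pow, ← hz, pow_orderOf_eq_one, one_mul, hz,
            show p ^ k = p ^ (k - j) * p ^ j by rw [← pow_add, Nat.sub_add_cancel hjk], pow_mul, hup, one_pow]

theorem card_sylow_prime {p : ℕ} [hp : Fact p.Prime] (hk : (Nat.card G).factorization p = 1) :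
    cnt G p = Nat.card (Sylow p G) * (p - 1) := by
  classical
  haveI := Fintype.ofFinite G
  have hP : ∀ P : Sylow p G, Nat.card (P : Subgroup G) = p := fun P => by
    rw [P.card_eq_multiplicity, hk, pow_one]
  let e : (Σ P : Sylow p G, {x : (P : Subgroup G) // x ≠ 1}) → {g : G // orderOf g = p} := fun z =>
    ⟨z.2.1, by
      have h1 := orderOf_dvd_natCard z.2.1
      rw [hP, Nat.dvd_prime hp.out, orderOf_eq_one_iff] at h1
      rw [Subgroup.orderOf_coe]
      exact h1.resolve_left z.2.2⟩
  have he : Function.Bijective e := by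
    constructor
    · rintro ⟨P, ⟨x, hx⟩, hx1⟩ ⟨Q, ⟨y, hy⟩, hy1⟩ h
      obtain rfl : x = y := congrArg Subtype.val h
      have hz : ∀ (R : Sylow p G), x ∈ (R : Subgroup G) → zpowers x = (R : Subgroup G) := fun R hR => by
        refine Subgroup.eq_of_le_of_card_ge (zpowers_le.2 hR) ?_
        rw [hP, Nat.card_zpowers]
        exact ((e ⟨P, ⟨x, hx⟩, hx1⟩).2).ge
      obtain rfl : P = Q := Sylow.ext ((hz P hx).symm.trans (hz Q hy))
      rfl
    · rintro ⟨g, hg⟩
      let P : Sylow p G := Sylow.ofCard (zpowers g) (by rw [Nat.card_zpowers, hg, hk, pow_one])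
      refine ⟨⟨P, ⟨g, mem_zpowers g⟩, fun h => ?_⟩, rfl⟩
      have : g = 1 := congrArg Subtype.val h
      rw [this, orderOf_one] at hg
      exact hp.out.one_lt.ne hg
  rw [cnt, ← Nat.card_congr (Equiv.ofBijective e he), Nat.card_sigma, Finset.sum_congr rfl fun P _ => (?_ : _ = p - 1),
    Finset.sum_const, smul_eq_mul, Finset.card_univ, Nat.card_eq_fintype_card]
  rw [Nat.card_eq_fintype_card, Fintype.card_subtype_compl, Fintype.card_subtype_eq, ← Nat.card_eq_fintype_card, hP]

/-- Counting elements of order `p * m` when the Sylow `p`-subgroups have order `p`. -/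
theorem cnt_mul {p m : ℕ} [hp : Fact p.Prime] (hk : (Nat.card G).factorization p = 1) (hm : p.Coprime m)
    {y : G} (hy : orderOf y = p) :
    cnt G (p * m) = cnt G p * cnt (centralizer ({y} : Set G)) m := by
  classical
  haveI := Fintype.ofFinite G
  let e : (Σ u : {g : G // orderOf g = p}, {w : centralizer ({(u : G)} : Set G) // orderOf w = m}) →
      {g : G // orderOf g = p * m} := fun z => ⟨z.1.1 * z.2.1.1, by
    have hc : Commute z.1.1 (z.2.1.1 : G) := (mem_centralizer_singleton_iff.1 z.2.1.2).symm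
    rw [hc.orderOf_mul_eq_mul_orderOf_of_coprime, z.1.2, Subgroup.orderOf_coe, z.2.2]
    rw [z.1.2, Subgroup.orderOf_coe, z.2.2]
    exact hm⟩
  have he : Function.Bijective e := by
    constructor
    · rintro ⟨⟨u, hu⟩, ⟨⟨w, hw⟩, hwm⟩⟩ ⟨⟨u', hu'⟩, ⟨⟨w', hw'⟩, hwm'⟩⟩ h
      have h1 : u * w = u' * w' := congrArg Subtype.val h
      have hwo : w ^ m = 1 := by rw [← hwm, ← Subgroup.orderOf_coe]; exact pow_orderOf_eq_one w
      have hwo' : w' ^ m = 1 := by rw [← hwm', ← Subgroup.orderOf_coe]; exact pow_orderOf_eq_one w'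
      have hc : Commute u w := (mem_centralizer_singleton_iff.1 hw).symm
      have hc' : Commute u' w' := (mem_centralizer_singleton_iff.1 hw').symm
      have h2 : u ^ m = u' ^ m := by
        have := congrArg (· ^ m) h1
        simp only [hc.mul_pow, hc'.mul_pow, hwo, hwo', mul_one] at this
        exact this
      have h3 : u = u' := by
        obtain ⟨b, hb⟩ := exists_pow_eq_self_of_coprime (n := m) (x := u) (by rw [hu]; exact hm.symm)
        obtain ⟨b', hb'⟩ := exists_pow_eq_self_of_coprime (n := m) (x := u') (by rw [hu']; exact hm.symm)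
        -- both are the `p`-parts of `u * w`
        have hmem : u ∈ zpowers u' := by
          rw [← hb, h2, ← pow_mul]; exact Subgroup.npow_mem_zpowers u' _
        obtain ⟨i, rfl⟩ : ∃ i : ℕ, u' ^ i = u := by
          obtain ⟨i, hi⟩ := mem_zpowers_iff.1 hmem
          refine ⟨(i % (orderOf u' : ℤ)).toNat, ?_⟩
          rw [← zpow_natCast, Int.toNat_of_nonneg (Int.emod_nonneg _ (by simpa using (orderOf_pos u').ne')),
            zpow_mod_orderOf, hi]
        have h4 := congrArg (fun v => v ^ b') h2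
        simp only [pow_right_comm _ i m, pow_right_comm _ i b', hb'] at h4
        exact h4
      subst h3
      obtain rfl : w = w' := mul_left_cancel h1
      rfl
    · rintro ⟨g, hg⟩
      obtain ⟨a, b, hab⟩ : IsCoprime (p : ℤ) (m : ℤ) := Nat.isCoprime_iff_coprime.2 hm
      have hgo : g ^ ((p : ℤ) * m) = 1 := by
        rw [← Nat.cast_mul, zpow_natCast, ← hg, pow_orderOf_eq_one]
      have hu1 : (g ^ (b * m)) ^ p = 1 := by
        rw [← zpow_natCast, ← zpow_mul, show b * m * p = (p : ℤ) * m * b by ring, zpow_mul, hgo, one_zpow]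
      have hw1 : (g ^ (a * p)) ^ m = 1 := by
        rw [← zpow_natCast, ← zpow_mul, show a * p * m = (p : ℤ) * m * a by ring, zpow_mul, hgo, one_zpow]
      have hc : Commute (g ^ (b * m)) (g ^ (a * p)) := Commute.zpow_zpow (Commute.refl g) _ _
      have hprod : g ^ (b * m) * g ^ (a * p) = g := by
        rw [← zpow_add, show b * m + a * p = 1 by linarith, zpow_one]
      have hd1 := orderOf_dvd_of_pow_eq_one hu1
      have hd2 := orderOf_dvd_of_pow_eq_one hw1
      have hmul := hc.orderOf_mul_eq_mul_orderOf_of_coprime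
        ((hm.coprime_dvd_left hd1).coprime_dvd_right hd2)
      rw [hprod, hg] at hmul
      have hpos : 0 < p * m := hg ▸ orderOf_pos g
      have hmpos : 0 < m := Nat.pos_of_mul_pos_left hpos
      have hlem : orderOf (g ^ (b * m)) = p ∧ orderOf (g ^ (a * p)) = m := by
        have l1 := Nat.le_of_dvd hp.out.pos hd1
        have l2 := Nat.le_of_dvd hmpos hd2
        constructor
        · refine le_antisymm l1 (Nat.le_of_mul_le_mul_right ?_ hmpos)
          rw [hmul]; exact Nat.mul_le_mul_left _ l2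
        · refine le_antisymm l2 (Nat.le_of_mul_le_mul_left ?_ hp.out.pos)
          rw [hmul]; exact Nat.mul_le_mul_right _ l1
      refine ⟨⟨⟨_, hlem.1⟩, ⟨⟨g ^ (a * p), mem_centralizer_singleton_iff.2 hc.eq.symm⟩, ?_⟩⟩, Subtype.ext hprod⟩
      rw [← Subgroup.orderOf_coe]
      exact hlem.2
  rw [cnt, ← Nat.card_congr (Equiv.ofBijective e he), Nat.card_sigma,
    Finset.sum_congr rfl fun u _ => (?_ : _ = cnt (centralizer ({y} : Set G)) m), Finset.sum_const,
    smul_eq_mul, Finset.card_univ, ← Nat.card_eq_fintype_card]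
  · rfl
  · -- all centralisers of elements of order `p` are conjugate
    let P : Sylow p G := Sylow.ofCard (zpowers y) (by rw [Nat.card_zpowers, hy, hk, pow_one])
    let Q : Sylow p G := Sylow.ofCard (zpowers (u : G)) (by rw [Nat.card_zpowers, u.2, hk, pow_one])
    obtain ⟨g, hg⟩ := MulAction.exists_smul_eq G P Q
    have hmap : (zpowers y).map (MulAut.conj g).toMonoidHom = zpowers (u : G) :=
      congrArg (fun R : Sylow p G => (R : Subgroup G)) hg
    have hcs : ∀ v : G, centralizer ({v} : Set G) = centralizer (zpowers v : Set G) := fun v => by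
      rw [zpowers_eq_closure, centralizer_closure]
    have hC : (centralizer ({y} : Set G)).map (MulAut.conj g).toMonoidHom = centralizer ({(u : G)} : Set G) := by
      rw [hcs, hcs, ← hmap]
      ext x
      simp only [Subgroup.mem_map, mem_centralizer_iff, SetLike.mem_coe, MulEquiv.coe_toMonoidHom, MulAut.conj_apply]
      constructor
      · rintro ⟨c, hc, rfl⟩ _ ⟨h, hh, rfl⟩
        have := hc h hh
        calc g * h * g⁻¹ * (g * c * g⁻¹) = g * (h * c) * g⁻¹ := by group
          _ = g * (c * h) * g⁻¹ := by rw [this]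
          _ = _ := by group
      · intro hx
        refine ⟨g⁻¹ * x * g, fun h hh => ?_, by group⟩
        have := hx _ ⟨h, hh, rfl⟩
        calc h * (g⁻¹ * x * g) = g⁻¹ * (g * h * g⁻¹ * x) * g := by group
          _ = g⁻¹ * (x * (g * h * g⁻¹)) * g := by rw [this]
          _ = _ := by group
    exact Nat.card_congr (((centralizer ({y} : Set G)).equivMapOfInjective _ (MulAut.conj g).injective).trans
      (MulEquiv.subgroupCongr hC) |>.toEquiv.subtypeEquiv fun a => by rw [MulEquiv.toEquiv_eq_coe, MulEquiv.coe_toEquiv, MulEquiv.orderOf_eq]).symm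

/-- A conjugation invariant count: the number of conjugates of `y` is at most the number of elements of its order. -/
theorem index_centralizer_le (y : G) : (centralizer ({y} : Set G)).index ≤ cnt G (orderOf y) := by
  classical
  rw [show (centralizer ({y} : Set G)).index = Nat.card (G ⧸ centralizer ({y} : Set G)) from rfl]
  refine Nat.card_le_card_of_injective (fun q => Quotient.liftOn' q
    (fun g => (⟨g * y * g⁻¹, (MulAut.conj g).orderOf_eq y⟩ : {x : G // orderOf x = orderOf y})) ?_) ?_
  · intro a b h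
    rw [QuotientGroup.leftRel_apply, mem_centralizer_singleton_iff] at h
    apply Subtype.ext
    calc a * y * a⁻¹ = a * (y * (a⁻¹ * b)) * b⁻¹ := by group
      _ = a * ((a⁻¹ * b) * y) * b⁻¹ := by rw [h]
      _ = b * y * b⁻¹ := by group
  · intro q q'
    refine Quotient.inductionOn₂' q q' fun a b h => ?_
    have h1 : a * y * a⁻¹ = b * y * b⁻¹ := congrArg Subtype.val h
    rw [Quotient.eq'', QuotientGroup.leftRel_apply, mem_centralizer_singleton_iff]
    calc a⁻¹ * b * y = a⁻¹ * (b * y * b⁻¹) * b := by group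
      _ = a⁻¹ * (a * y * a⁻¹) * b := by rw [h1]
      _ = _ := by group

end CfsgLib.Nse
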