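import Cfsg.Agent.Nse.Basic
import Cfsg.Agent.InvChar.ThreeSixty
import Cfsg.Agent.PrimeGraph.DegreeSixty
import Mathlib.GroupTheory.SpecificGroups.Alternating

/-!
Groups with the same numbers of elements of equal order as `A₄`, `A₅` or `A₆`.
-/

set_option autoImplicit false
set_option linter.style.haveILetI false
set_option maxHeartbeats 1000000

open Subgroup CfsgLib.ThreeCounts

namespace CfsgLib.Nse

variable {G : Type*} [Group G] [Finite G]

/-- The set of values of `cnt G` on the element orders is `V`. -/
def Vals (G : Type*) [Group G] (V : Finset ℕ) : Prop :=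
  (∀ m, cnt G m ≠ 0 → cnt G m ∈ V) ∧ ∀ v ∈ V, ∃ m, cnt G m = v

theorem vals_of_image {V : Finset ℕ}
    (h : ((fun m : ℕ => Nat.card {g : G // orderOf g = m}) '' Set.range (orderOf : G → ℕ)) = ↑V) :
    Vals G V := by
  constructor
  · intro m hm
    obtain ⟨g, hg⟩ := cnt_pos_iff.1 hm
    exact Finset.mem_coe.1 (h ▸ ⟨m, ⟨g, hg⟩, rfl⟩)
  · intro v hv
    obtain ⟨m, -, hm⟩ := h.symm ▸ (Finset.mem_coe.2 hv)
    exact ⟨m, hm⟩

theorem cnt_prime_add {p : ℕ} (hp : p.Prime) (h : p ∣ Nat.card G) : p ∣ 1 + cnt G p := by
  have := frob h
  rwa [hp.sum_divisors, cnt_one, add_comm] at this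

theorem cnt_two_cases {V : Finset ℕ} {w : ℕ} (hV : Vals G V) (hw : w ∈ V) (hodd : ¬ 2 ∣ w) (hw1 : w ≠ 1) :
    cnt G 2 = w := by
  obtain ⟨m, hm⟩ := hV.2 w hw
  rcases Nat.lt_trichotomy m 2 with h | h | h
  · interval_cases m
    · have h0 : cnt G 0 = 0 := Nat.card_eq_zero.2 (Or.inl ⟨fun g => (orderOf_pos g.1).ne' g.2⟩)
      exact absurd (by rw [← hm, h0]; exact dvd_zero 2) hodd
    · exact absurd (hm.symm.trans cnt_one) hw1
  · exact h ▸ hm
  · exact absurd (hm ▸ two_dvd_cnt h) hodd

theorem eq_prod_of_primes {n : ℕ} (hn : n ≠ 0) {s : Finset ℕ} (h : ∀ p, p.Prime → p ∣ n → p ∈ s) :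
    n = ∏ p ∈ s, p ^ n.factorization p := by
  conv_lhs => rw [← Nat.prod_factorization_pow_eq_self hn]
  refine Finsupp.prod_of_support_subset _ (fun p hp => ?_) _ fun _ _ => pow_zero _
  rw [Nat.support_factorization] at hp
  exact h p (Nat.prime_of_mem_primeFactors hp) (Nat.dvd_of_mem_primeFactors hp)

/-- The number of solutions of `x ^ (p ^ k) = 1`, `p ^ k` the `p`-part, with terms vanishing beyond `l`. -/
theorem ppart_dvd {p l : ℕ} (hp : p.Prime) (h : cnt G (p ^ (l + 1)) = 0) :
    p ^ (Nat.card G).factorization p ∣ ∑ i ∈ Finset.range (l + 1), cnt G (p ^ i) := by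
  set k := (Nat.card G).factorization p
  have h1 := frob (Nat.ordProj_dvd (Nat.card G) p)
  rw [Nat.sum_divisors_prime_pow hp] at h1
  convert h1 using 1
  rcases le_total l k with hle | hle
  · refine Finset.sum_subset (fun i hi => Finset.mem_range.2 ((Finset.mem_range.1 hi).trans_le (by omega)))
      fun i hi hi' => cnt_zero_of_dvd (pow_dvd_pow p ?_) h
    rw [Finset.mem_range] at hi'; omega
  · refine (Finset.sum_subset (fun i hi => Finset.mem_range.2 ((Finset.mem_range.1 hi).trans_le (by omega)))
      fun i hi hi' => ?_).symm
    by_contra hne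
    have := (hp.pow_dvd_iff_le_factorization Nat.card_pos.ne').1 (dvd_of_cnt hne)
    rw [Finset.mem_range] at hi'; omega

theorem fact_pos_of_dvd {p : ℕ} (hp : p.Prime) {k : ℕ} (h : p ^ k ∣ Nat.card G) :
    k ≤ (Nat.card G).factorization p :=
  (hp.pow_dvd_iff_le_factorization Nat.card_pos.ne').1 h

theorem fact_centralizer (y : G) (p : ℕ) :
    (Nat.card G).factorization p = (centralizer ({y} : Set G)).index.factorization p +
      (Nat.card (centralizer ({y} : Set G))).factorization p := by
  rw [← Finsupp.add_apply, ← Nat.factorization_mul (Subgroup.index_ne_zero_of_finite) Nat.card_pos.ne',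
    Subgroup.index_mul_card]

theorem fact_zero_of_cnt {p : ℕ} (hp : p.Prime) (h : cnt G p = 0) : (Nat.card G).factorization p = 0 := by
  by_contra hne
  haveI := Fact.mk hp
  obtain ⟨g, hg⟩ := exists_prime_orderOf_dvd_card' (G := G) p (Nat.dvd_of_factorization_pos hne)
  exact cnt_pos_iff.2 ⟨g, hg⟩ h

/-- The Sylow 2-subgroups of a group with at most one involution and no element of order 4 have order at most 2. -/
theorem fact_two_le_one (h4 : cnt G 4 = 0) (h2 : cnt G 2 ≤ 1) : (Nat.card G).factorization 2 ≤ 1 := by
  by_contra hne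
  have hd : 4 ∣ Nat.card G :=
    (Nat.prime_two.pow_dvd_iff_le_factorization (k := 2) Nat.card_pos.ne').2 (by omega)
  have := frob hd
  rw [show Nat.divisors 4 = {1, 2, 4} by decide] at this
  simp [cnt_one, h4] at this
  omega

theorem four (hV : Vals G {1, 3, 8}) : Nonempty (G ≃* alternatingGroup (Fin 4)) := by
  classical
  have h2 : cnt G 2 = 3 := cnt_two_cases hV (by simp) (by norm_num) (by norm_num)
  have hval : ∀ m, 2 < m → cnt G m = 0 ∨ cnt G m = 8 := fun m hm => by
    by_cases h0 : cnt G m = 0
    · exact Or.inl h0
    have := hV.1 m h0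
    have := two_dvd_cnt (G := G) hm
    simp only [Finset.mem_insert, Finset.mem_singleton] at *
    omega
  have hG2 : 2 ∣ Nat.card G := dvd_of_cnt (by omega)
  have hprimes : ∀ p, p.Prime → p ∣ Nat.card G → p ∈ ({2, 3} : Finset ℕ) := fun p hp hd => by
    rcases hp.eq_two_or_odd with rfl | _
    · simp
    have h := cnt_prime_add hp hd
    have hp2 := hp.two_le
    rcases hval p (by omega) with h0 | h0 <;> rw [h0] at h
    · exact absurd (Nat.dvd_one.1 h) hp.one_lt.ne'
    · have := Nat.le_of_dvd (by norm_num) h
      interval_cases p <;> first | (simp; done) | omega | (norm_num at hp)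
  have h9 : cnt G 9 = 0 := by
    rcases hval 9 (by norm_num) with h | h
    · exact h
    have := totient_dvd_cnt (G := G) (m := 9) (by norm_num)
    rw [h, show Nat.totient 9 = 6 by decide] at this
    omega
  have hcard : Nat.card G = 2 ^ (Nat.card G).factorization 2 * 3 ^ (Nat.card G).factorization 3 := by
    have := eq_prod_of_primes Nat.card_pos.ne' hprimes
    rwa [Finset.prod_pair (by norm_num)] at this
  have h8 : 8 ∣ Nat.card G - 4 ∧ 4 ≤ Nat.card G := by
    have h1 : 1 ∈ (Nat.card G).divisors := by simp [Nat.card_pos.ne']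
    have h2m : 2 ∈ (Nat.card G).divisors.erase 1 := by simp [hG2, Nat.card_pos.ne']
    rw [card_eq_sum (G := G), ← Finset.add_sum_erase _ _ h1, ← Finset.add_sum_erase _ _ h2m, cnt_one, h2,
      show ∀ s : ℕ, 1 + (3 + s) - 4 = s by omega]
    refine ⟨Finset.dvd_sum fun d hd => ?_, by omega⟩
    simp only [Finset.mem_erase, Nat.mem_divisors] at hd
    have : d ≠ 0 := fun e => hd.2.2.2 (by simpa [e] using hd.2.2.1)
    rcases hval d (by omega) with h | h <;> simp [h]
  have hb2 : (Nat.card G).factorization 3 ≤ 2 := by
    have h := ppart_dvd (l := 1) (G := G) Nat.prime_three (by norm_num; exact h9)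
    simp [Finset.sum_range_succ, cnt_one] at h
    rcases hval 3 (by norm_num) with h3 | h3 <;> rw [h3] at h <;>
    · by_contra hb
      have := Nat.le_of_dvd (by norm_num) ((pow_dvd_pow 3 (by omega : 3 ≤ (Nat.card G).factorization 3)).trans h)
      norm_num at this
  have hsum := sum_values_le (G := G) {1, 3, 8} (fun v hv => hV.2 v hv) (by simp)
  simp at hsum
  have ha : (Nat.card G).factorization 2 = 2 := by
    have hd4 : 4 ∣ Nat.card G := by omega
    have hd8 : ¬ 8 ∣ Nat.card G := by omega
    refine le_antisymm ?_ (fact_pos_of_dvd (k := 2) Nat.prime_two hd4)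
    by_contra hlt
    exact hd8 ((pow_dvd_pow 2 (by omega : 3 ≤ _)).trans (Nat.ordProj_dvd (Nat.card G) 2))
  rw [ha] at hcard
  interval_cases hb : (Nat.card G).factorization 3
  · omega
  · -- order 12
    norm_num at hcard
    haveI := Fact.mk Nat.prime_three
    have h3 : cnt G 3 = 8 := by
      rcases hval 3 (by norm_num) with h | h
      · exact absurd (fact_zero_of_cnt Nat.prime_three h) (by omega)
      · exact h
    have hn : Nat.card (Sylow 3 G) = 4 := by
      have := card_sylow_prime (p := 3) hb
      omega
    let φ := MulAction.toPermHom G (Sylow 3 G)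
    have hinj : Function.Injective φ := by
      rw [← MonoidHom.ker_eq_bot_iff, eq_bot_iff]
      intro g hg
      have hN : ∀ P : Sylow 3 G, g ∈ (P : Subgroup G) := fun P => by
        have h1 : g ∈ normalizer ((P : Subgroup G) : Set G) := by
          exact Sylow.smul_eq_iff_mem_normalizer.1 (congrArg (fun σ : Equiv.Perm (Sylow 3 G) => σ P) hg)
        suffices normalizer ((P : Subgroup G) : Set G) = P from this ▸ h1
        refine (Subgroup.eq_of_le_of_card_ge Subgroup.le_normalizer ?_).symm
        have hi := (normalizer ((P : Subgroup G) : Set G)).card_mul_index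
        have hi' : Nat.card (Sylow 3 G) = (normalizer ((P : Subgroup G) : Set G)).index :=
          Sylow.card_eq_index_normalizer P
        rw [hn] at hi'
        rw [← hi', hcard] at hi
        rw [P.card_eq_multiplicity, hb]
        omega
      have : Nontrivial (Sylow 3 G) := Finite.one_lt_card_iff_nontrivial.1 (by omega)
      obtain ⟨P, Q, hPQ⟩ := exists_pair_ne (Sylow 3 G)
      rw [Subgroup.mem_bot]
      by_contra hne
      apply hPQ
      have hz : ∀ R : Sylow 3 G, zpowers g = (R : Subgroup G) := fun R => by
        refine Subgroup.eq_of_le_of_card_ge (zpowers_le.2 (hN R)) ?_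
        have hd : orderOf g ∣ 3 := by
          have := orderOf_dvd_natCard (⟨g, hN R⟩ : (R : Subgroup G))
          rwa [R.card_eq_multiplicity, hb, pow_one, Subgroup.orderOf_mk] at this
        rw [R.card_eq_multiplicity, hb, pow_one, Nat.card_zpowers]
        rcases (Nat.dvd_prime Nat.prime_three).1 hd with h | h
        · exact absurd (orderOf_eq_one_iff.1 h) hne
        · exact h.ge
      exact Sylow.ext ((hz P).symm.trans (hz Q))
    obtain ⟨e⟩ : Nonempty (Sylow 3 G ≃ Fin 4) := ⟨hn ▸ Finite.equivFin _⟩
    let ψ : G →* Equiv.Perm (Fin 4) := e.permCongrHom.toMonoidHom.comp φ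
    have hψ : Function.Injective ψ := e.permCongrHom.injective.comp hinj
    have hidx : ψ.range.index = 2 := by
      have h1 := ψ.range.card_mul_index
      have hr : Nat.card ψ.range = 12 := (Nat.card_congr (MonoidHom.ofInjective hψ).toEquiv.symm).trans (by omega)
      rw [hr, Nat.card_perm, Nat.card_eq_fintype_card, Fintype.card_fin, show Nat.factorial 4 = 24 from rfl] at h1
      omega
    exact ⟨(MonoidHom.ofInjective hψ).trans
      (MulEquiv.subgroupCongr (Equiv.Perm.eq_alternatingGroup_of_index_eq_two hidx))⟩
  · -- order 36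
    exfalso
    norm_num at hcard
    have hT : ∀ g : G, orderOf g ∈ ({1, 2, 3, 4, 6, 12} : Finset ℕ) := fun g => by
      have hne : cnt G (orderOf g) ≠ 0 := cnt_pos_iff.2 ⟨g, rfl⟩
      have hd := orderOf_dvd_natCard g
      have : ¬ 9 ∣ orderOf g := fun h => hne (cnt_zero_of_dvd h h9)
      rw [hcard] at hd
      have := Nat.le_of_dvd (by norm_num) hd
      interval_cases orderOf g <;> norm_num at * <;> simp
    have htot := card_eq_sum_of _ hT
    have h18 := frob (G := G) (n := 18) (by omega)
    rw [show Nat.divisors 18 = {1, 2, 3, 6, 9, 18} by decide] at h18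
    simp [cnt_one, h2, h9, cnt_zero_of_dvd (show 9 ∣ 18 by norm_num) h9] at h18 htot
    rcases hval 3 (by norm_num) with a | a <;> rcases hval 4 (by norm_num) with b | b <;>
      rcases hval 6 (by norm_num) with c | c <;> rcases hval 12 (by norm_num) with d | d <;> omega

theorem five (hV : Vals G {1, 15, 20, 24}) : Nonempty (G ≃* alternatingGroup (Fin 5)) := by
  classical
  haveI := Fact.mk Nat.prime_three
  haveI := Fact.mk Nat.prime_five
  have h2 : cnt G 2 = 15 := cnt_two_cases hV (by simp) (by norm_num) (by norm_num)
  have hval : ∀ m, 2 < m → cnt G m = 0 ∨ cnt G m = 20 ∨ cnt G m = 24 := fun m hm => by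
    by_cases h0 : cnt G m = 0
    · exact Or.inl h0
    have := hV.1 m h0
    have := two_dvd_cnt (G := G) hm
    simp only [Finset.mem_insert, Finset.mem_singleton] at *
    omega
  have hphi : ∀ m t : ℕ, 2 < m → Nat.totient m = t → ¬ t ∣ 20 → ¬ t ∣ 24 → cnt G m = 0 := fun m t hm ht h20 h24 => by
    have := totient_dvd_cnt (G := G) (m := m) (by omega)
    rw [ht] at this
    rcases hval m hm with h | h | h
    · exact h
    · exact absurd (h ▸ this) h20
    · exact absurd (h ▸ this) h24
  have hphi24 : ∀ m t : ℕ, 2 < m → Nat.totient m = t → ¬ t ∣ 20 → cnt G m = 0 ∨ cnt G m = 24 := fun m t hm ht h20 => by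
    have := totient_dvd_cnt (G := G) (m := m) (by omega)
    rw [ht] at this
    rcases hval m hm with h | h | h
    · exact Or.inl h
    · exact absurd (h ▸ this) h20
    · exact Or.inr h
  have hG2 : 2 ∣ Nat.card G := dvd_of_cnt (by omega)
  have hprimes : ∀ p, p.Prime → p ∣ Nat.card G → p ∈ ({2, 3, 5} : Finset ℕ) := fun p hp hd => by
    rcases hp.eq_two_or_odd with rfl | _
    · simp
    have h := cnt_prime_add hp hd
    have hp2 := hp.two_le
    have ht := totient_dvd_cnt (G := G) (m := p) hp.pos
    rw [Nat.totient_prime hp] at ht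
    rcases hval p (by omega) with h0 | h0 | h0 <;> rw [h0] at h ht
    · exact absurd (Nat.dvd_one.1 h) hp.one_lt.ne'
    · have := Nat.le_of_dvd (by norm_num) h
      interval_cases p <;> first | (simp; done) | omega | (norm_num at hp)
    · have := Nat.le_of_dvd (by norm_num) h
      interval_cases p <;> first | (simp; done) | omega | (norm_num at hp)
  have hcard : Nat.card G = 2 ^ (Nat.card G).factorization 2 * (3 ^ (Nat.card G).factorization 3 *
      5 ^ (Nat.card G).factorization 5) := by
    have := eq_prod_of_primes Nat.card_pos.ne' hprimes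
    rwa [Finset.prod_insert (by simp), Finset.prod_pair (by norm_num)] at this
  have h27 : cnt G 27 = 0 := hphi 27 18 (by norm_num) (by decide) (by norm_num) (by norm_num)
  have h125 : cnt G 125 = 0 := hphi 125 100 (by norm_num) (by decide) (by norm_num) (by norm_num)
  have h32 : cnt G 32 = 0 := hphi 32 16 (by norm_num) (by decide) (by norm_num) (by norm_num)
  have h16 := hphi24 16 8 (by norm_num) (by decide) (by norm_num)
  have h3v : 3 ∣ Nat.card G → cnt G 3 = 20 := fun hd => by
    have := cnt_prime_add Nat.prime_three hd
    rcases hval 3 (by norm_num) with h | h | h <;> omega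
  have h5v : 5 ∣ Nat.card G → cnt G 5 = 24 := fun hd => by
    have := cnt_prime_add Nat.prime_five hd
    rcases hval 5 (by norm_num) with h | h | h <;> omega
  have hb : (Nat.card G).factorization 3 ≤ 1 := by
    by_contra hb
    have h3 := h3v ((dvd_pow_self 3 (by omega)).trans (Nat.ordProj_dvd (Nat.card G) 3))
    have h := ppart_dvd (l := 2) (G := G) Nat.prime_three (by norm_num; exact h27)
    simp [Finset.sum_range_succ, cnt_one, h3] at h
    have h9 := hphi24 9 6 (by norm_num) (by decide) (by norm_num)
    have hle : (Nat.card G).factorization 3 ≤ 2 := by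
      by_contra hlt
      have := (pow_dvd_pow 3 (by omega : 3 ≤ (Nat.card G).factorization 3)).trans h
      norm_num at this
      rcases h9 with h9 | h9 <;> rw [h9] at this <;> norm_num at this
    have heq : (Nat.card G).factorization 3 = 2 := by omega
    rw [heq] at h
    rcases h9 with h9 | h9
    · rw [h9] at h; norm_num at h
    · have := cnt_cyclic_le (G := G) (p := 3) (k := 2) (j := 1) heq (by norm_num [h9]) le_rfl (by norm_num)
      norm_num [h3, h9] at this
  have h25 : cnt G 25 = 0 := by
    by_contra hne
    have hv : cnt G 25 = 20 := by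
      have := totient_dvd_cnt (G := G) (m := 25) (by norm_num)
      rw [show Nat.totient 25 = 20 by decide] at this
      rcases hval 25 (by norm_num) with h | h | h <;> omega
    have hd := dvd_of_cnt hne
    have h5 := h5v ((show 5 ∣ 25 by norm_num).trans hd)
    have h := (pow_dvd_pow 5 (fact_pos_of_dvd (k := 2) Nat.prime_five hd)).trans
      (ppart_dvd (l := 2) (G := G) Nat.prime_five (by norm_num; exact h125))
    simp [Finset.sum_range_succ, cnt_one, h5, hv] at h
  have hc : (Nat.card G).factorization 5 ≤ 2 := by
    by_contra hc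
    have h := (pow_dvd_pow 5 (by omega : 3 ≤ (Nat.card G).factorization 5)).trans
      (ppart_dvd (l := 1) (G := G) Nat.prime_five (by norm_num; exact h25))
    simp [Finset.sum_range_succ, cnt_one] at h
    rcases hval 5 (by norm_num) with h5 | h5 | h5 <;> rw [h5] at h <;> norm_num at h
  have hsum := sum_values_le (G := G) {1, 15, 20, 24} (fun v hv => hV.2 v hv) (by simp)
  simp at hsum
  obtain ⟨m20, hm20⟩ := hV.2 20 (by simp)
  have hm20d := dvd_of_cnt (G := G) (m := m20) (by omega)
  have hord : ∀ g : G, ∃ i ≤ (Nat.card G).factorization 2, ∃ j ≤ (Nat.card G).factorization 3,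
      ∃ k ≤ (Nat.card G).factorization 5, orderOf g = 2 ^ i * (3 ^ j * 5 ^ k) := fun g => by
    have hd := orderOf_dvd_natCard g
    rw [hcard] at hd
    obtain ⟨u, v, hu, hv, e⟩ := exists_dvd_and_dvd_of_dvd_mul hd
    obtain ⟨v₁, v₂, hv₁, hv₂, rfl⟩ := exists_dvd_and_dvd_of_dvd_mul hv
    obtain ⟨i, hi, rfl⟩ := (Nat.dvd_prime_pow Nat.prime_two).1 hu
    obtain ⟨j, hj, rfl⟩ := (Nat.dvd_prime_pow Nat.prime_three).1 hv₁
    obtain ⟨k, hk, rfl⟩ := (Nat.dvd_prime_pow Nat.prime_five).1 hv₂
    exact ⟨i, hi, j, hj, k, hk, e⟩
  interval_cases hb' : (Nat.card G).factorization 3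
  · -- no element of order 3
    exfalso
    interval_cases hc' : (Nat.card G).factorization 5
    · have hT : ∀ g : G, orderOf g ∈ ({1, 2, 4, 8, 16} : Finset ℕ) := fun g => by
        obtain ⟨i, hi, j, hj, k, hk, e⟩ := hord g
        obtain rfl : j = 0 := by omega
        obtain rfl : k = 0 := by omega
        have : i < 5 := by
          by_contra hlt
          exact cnt_pos_iff.2 ⟨g, rfl⟩ (cnt_zero_of_dvd (e ▸ (pow_dvd_pow 2 (by omega : 5 ≤ i)).trans (dvd_mul_right _ _)) h32)
        interval_cases i <;> simp [e]
      have htot := card_eq_sum_of _ hT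
      simp [cnt_one, h2] at htot
      have hm : m20 = 1 ∨ m20 = 2 ∨ m20 = 4 ∨ m20 = 8 ∨ m20 = 16 := by
        obtain ⟨g, hg⟩ := cnt_pos_iff.1 (show cnt G m20 ≠ 0 by omega)
        simpa [hg] using hT g
      norm_num at hcard
      have ha : (Nat.card G).factorization 2 ≤ 6 := by
        by_contra hlt
        have := Nat.pow_le_pow_right (show 1 ≤ 2 by norm_num) (by omega : 7 ≤ (Nat.card G).factorization 2)
        rcases hval 4 (by norm_num) with a | a | a <;> rcases hval 8 (by norm_num) with b | b | b <;>
          rcases h16 with c | c <;> omega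
      rcases hm with rfl | rfl | rfl | rfl | rfl
      · rw [cnt_one] at hm20; omega
      · omega
      all_goals
        interval_cases ha' : (Nat.card G).factorization 2 <;> norm_num at hcard <;>
          rcases hval 4 (by norm_num) with a | a | a <;> rcases hval 8 (by norm_num) with b | b | b <;>
          rcases h16 with c | c <;> omega
    · have h5 := h5v (Nat.dvd_of_factorization_pos (by omega))
      have hn := card_sylow_prime (G := G) (p := 5) hc'
      have h6 : Nat.card (Sylow 5 G) = 6 := by omega
      have : 3 ∣ Nat.card G := by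
        refine (show 3 ∣ 6 by norm_num).trans ?_
        rw [← h6, Sylow.card_eq_index_normalizer (default : Sylow 5 G)]
        exact Subgroup.index_dvd_card _
      have := fact_pos_of_dvd (k := 1) Nat.prime_three (by simpa using this)
      omega
    · have h40 : cnt G 40 = 0 := hphi 40 16 (by norm_num) (by decide) (by norm_num) (by norm_num)
      have h20 := hphi24 20 8 (by norm_num) (by decide) (by norm_num)
      have hT : ∀ g : G, orderOf g ∈ ({1, 2, 4, 5, 8, 10, 16, 20} : Finset ℕ) := fun g => by
        obtain ⟨i, hi, j, hj, k, hk, e⟩ := hord g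
        obtain rfl : j = 0 := by omega
        have hne : cnt G (orderOf g) ≠ 0 := cnt_pos_iff.2 ⟨g, rfl⟩
        have : i < 5 := by
          by_contra hlt
          exact hne (cnt_zero_of_dvd (e ▸ (pow_dvd_pow 2 (by omega : 5 ≤ i)).trans (dvd_mul_right _ _)) h32)
        rw [e] at hne ⊢
        interval_cases k <;> interval_cases i <;> simp only [Finset.mem_insert, Finset.mem_singleton] <;>
          first
            | (norm_num; done)
            | (exfalso; refine hne (cnt_zero_of_dvd ?_ h25); norm_num; done)
            | (exfalso; refine hne (cnt_zero_of_dvd ?_ h40); norm_num; done)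
      have htot := card_eq_sum_of _ hT
      have h5 := h5v (Nat.dvd_of_factorization_pos (by omega))
      simp [cnt_one, h2, h5] at htot
      norm_num at hcard
      have z : ∀ m, ¬ m ∣ Nat.card G → cnt G m = 0 := fun m hm => by_contra fun h => hm (dvd_of_cnt h)
      have ha : (Nat.card G).factorization 2 ≤ 2 := by
        by_contra hlt
        have := Nat.pow_le_pow_right (show 1 ≤ 2 by norm_num) (by omega : 3 ≤ (Nat.card G).factorization 2)
        rcases hval 4 (by norm_num) with a | a | a <;> rcases hval 8 (by norm_num) with b | b | b <;>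
          rcases h16 with c | c <;> rcases hval 10 (by norm_num) with d | d | d <;> rcases h20 with f | f <;> omega
      have z8 : cnt G 8 = 0 ∧ cnt G 16 = 0 := by
        constructor <;> refine z _ fun h => ?_
        · have := fact_pos_of_dvd (k := 3) Nat.prime_two (by simpa using h); omega
        · have := fact_pos_of_dvd (k := 4) Nat.prime_two (by simpa using h); omega
      rw [z8.1, z8.2] at htot
      interval_cases ha' : (Nat.card G).factorization 2 <;> norm_num at hcard
      · omega
      · have z4 : cnt G 4 = 0 := z _ (by omega)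
        have z20 : cnt G 20 = 0 := z _ (by omega)
        rcases hval 10 (by norm_num) with d | d | d <;> omega
      · rcases hval 4 (by norm_num) with a | a | a <;> rcases hval 10 (by norm_num) with d | d | d <;>
          rcases h20 with f | f <;> omega
  · -- Sylow 3-subgroups of order 3
    have hb1 : (Nat.card G).factorization 3 = 1 := hb'
    have h3 := h3v (Nat.dvd_of_factorization_pos (by omega))
    have hd5 : 5 ∣ Nat.card G := by
      have hn := card_sylow_prime (G := G) (p := 3) hb1
      refine (show 5 ∣ 10 by norm_num).trans ?_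
      rw [show 10 = Nat.card (Sylow 3 G) by omega, Sylow.card_eq_index_normalizer (default : Sylow 3 G)]
      exact Subgroup.index_dvd_card _
    have h5 := h5v hd5
    obtain ⟨y, hy⟩ := cnt_pos_iff.1 (show cnt G 3 ≠ 0 by omega)
    set C := centralizer ({y} : Set G) with hC
    have m6 : cnt G 6 = 20 * cnt C 2 := by
      have := cnt_mul (G := G) (p := 3) (m := 2) hb1 (by norm_num) hy
      rwa [h3] at this
    have m12 : cnt G 12 = 20 * cnt C 4 := by
      have := cnt_mul (G := G) (p := 3) (m := 4) hb1 (by norm_num) hy
      rwa [h3] at this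
    have m15 : cnt G 15 = 20 * cnt C 5 := by
      have := cnt_mul (G := G) (p := 3) (m := 5) hb1 (by norm_num) hy
      rwa [h3] at this
    have c4 : cnt C 4 = 0 ∧ cnt G 12 = 0 := by
      have := two_dvd_cnt (G := C) (m := 4) (by norm_num)
      rcases hval 12 (by norm_num) with h | h | h <;> omega
    have c5 : cnt C 5 = 0 ∧ cnt G 15 = 0 := by
      have := totient_dvd_cnt (G := C) (m := 5) (by norm_num)
      rw [show Nat.totient 5 = 4 by decide] at this
      rcases hval 15 (by norm_num) with h | h | h <;> omega
    have c2 : cnt C 2 ≤ 1 := by rcases hval 6 (by norm_num) with h | h | h <;> omega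
    have f5 : (Nat.card C).factorization 5 = 0 := fact_zero_of_cnt Nat.prime_five c5.1
    have f2 := fact_two_le_one c4.1 c2
    have hidx := index_centralizer_le y
    rw [hy, h3] at hidx
    have hi5 := fact_centralizer y 5
    have hi2 := fact_centralizer y 2
    rw [← hC] at hidx hi5 hi2
    have hdvd : 2 ^ (C.index.factorization 2) * 5 ^ (C.index.factorization 5) ∣ C.index :=
      (Nat.Coprime.pow _ _ (by norm_num : Nat.Coprime 2 5)).mul_dvd_of_dvd_of_dvd (Nat.ordProj_dvd _ _)
        (Nat.ordProj_dvd _ _)
    have hle : 2 ^ (C.index.factorization 2) * 5 ^ (C.index.factorization 5) ≤ 20 :=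
      (Nat.le_of_dvd (Nat.pos_of_ne_zero Subgroup.index_ne_zero_of_finite) hdvd).trans hidx
    have hc1 : (Nat.card G).factorization 5 = 1 := by
      have h1 := fact_pos_of_dvd (k := 1) Nat.prime_five (by simpa using hd5)
      by_contra hne
      have : 25 ≤ 5 ^ (C.index.factorization 5) := by
        calc 25 = 5 ^ 2 := by norm_num
          _ ≤ _ := Nat.pow_le_pow_right (by norm_num) (by omega)
      have h1' : 1 ≤ 2 ^ (C.index.factorization 2) := Nat.one_le_two_pow
      nlinarith
    have hi5' : C.index.factorization 5 = 1 := by omega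
    rw [hi5', pow_one] at hle
    have hi2' : C.index.factorization 2 ≤ 2 := by
      by_contra hlt
      have := Nat.pow_le_pow_right (show 1 ≤ 2 by norm_num) (by omega : 3 ≤ C.index.factorization 2)
      omega
    rw [hc1] at hcard
    have ha : (Nat.card G).factorization 2 ≤ 3 := by omega
    interval_cases ha' : (Nat.card G).factorization 2 <;> norm_num at hcard
    · omega
    · omega
    · -- order 60
      obtain ⟨P⟩ : Nonempty (Sylow 5 G) := inferInstance
      refine CfsgLib.Dickson.OrderSixty.nonempty_mulEquiv hcard P fun hn => ?_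
      have := card_sylow_prime (G := G) (p := 5) hc1
      have := @Nat.card_unique (Sylow 5 G) _ (Sylow.unique_of_normal P hn).instSubsingleton
      omega
    · -- order 120
      exfalso
      have h40 : cnt G 40 = 0 := hphi 40 16 (by norm_num) (by decide) (by norm_num) (by norm_num)
      have h20 : cnt G 20 = 0 := by
        obtain ⟨z, hz⟩ := cnt_pos_iff.1 (show cnt G 5 ≠ 0 by omega)
        have h := cnt_mul (G := G) (p := 5) (m := 4) hc1 (by norm_num) hz
        rw [h5] at h
        norm_num at h
        have := two_dvd_cnt (G := centralizer ({z} : Set G)) (m := 4) (by norm_num)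
        rcases hval 20 (by norm_num) with e | e | e <;> omega
      have hT : ∀ g : G, orderOf g ∈ ({1, 2, 3, 4, 5, 6, 8, 10} : Finset ℕ) := fun g => by
        obtain ⟨i, hi, j, hj, k, hk, e⟩ := hord g
        have hne : cnt G (orderOf g) ≠ 0 := cnt_pos_iff.2 ⟨g, rfl⟩
        rw [hc1] at hk
        rw [e] at hne ⊢
        interval_cases i <;> interval_cases j <;> interval_cases k <;>
          simp only [Finset.mem_insert, Finset.mem_singleton] <;>
          first
            | (norm_num; done)
            | (exfalso; refine hne (cnt_zero_of_dvd ?_ c4.2); norm_num; done)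
            | (exfalso; refine hne (cnt_zero_of_dvd ?_ c5.2); norm_num; done)
            | (exfalso; refine hne (cnt_zero_of_dvd ?_ h20); norm_num; done)
            | (exfalso; refine hne (cnt_zero_of_dvd ?_ h40); norm_num; done)
      have htot := card_eq_sum_of _ hT
      simp [cnt_one, h2, h3, h5] at htot
      have h6 : cnt G 6 = 20 := by
        have he : (Nat.card C).factorization 2 ≠ 0 := by omega
        haveI := Fact.mk Nat.prime_two
        obtain ⟨w, hw⟩ := exists_prime_orderOf_dvd_card' (G := C) 2 (Nat.dvd_of_factorization_pos he)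
        have := cnt_pos_iff.2 ⟨w, hw⟩
        omega
      haveI := Fact.mk Nat.prime_two
      have hcy := fun h8 : cnt G 8 ≠ 0 => cnt_cyclic_le (G := G) (p := 2) (k := 3) (j := 2) ha' (by norm_num [h8])
        (by norm_num) (by norm_num)
      norm_num at hcy
      rcases hval 4 (by norm_num) with a | a | a <;> rcases hval 8 (by norm_num) with b | b | b <;>
        rcases hval 10 (by norm_num) with c | c | c <;>
        first
          | omega
          | (have := hcy (by omega); omega)
          | (have h10 : cnt G 10 ≠ 20 := by
              obtain ⟨z, hz⟩ := cnt_pos_iff.1 (show cnt G 5 ≠ 0 by omega)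
              have h := cnt_mul (G := G) (p := 5) (m := 2) hc1 (by norm_num) hz
              rw [h5] at h; norm_num at h; omega
             omega)

theorem six (hV : Vals G {1, 45, 80, 90, 144}) : Nonempty (G ≃* alternatingGroup (Fin 6)) := by
  classical
  haveI := Fact.mk Nat.prime_two
  haveI := Fact.mk Nat.prime_three
  haveI := Fact.mk Nat.prime_five
  have h2 : cnt G 2 = 45 := cnt_two_cases hV (by simp) (by norm_num) (by norm_num)
  have hval : ∀ m, 2 < m → cnt G m = 0 ∨ cnt G m = 80 ∨ cnt G m = 90 ∨ cnt G m = 144 := fun m hm => by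
    by_cases h0 : cnt G m = 0
    · exact Or.inl h0
    have := hV.1 m h0
    have := two_dvd_cnt (G := G) hm
    simp only [Finset.mem_insert, Finset.mem_singleton] at *
    omega
  have hphi : ∀ m t : ℕ, 2 < m → Nat.totient m = t → ¬ t ∣ 80 → ¬ t ∣ 90 → ¬ t ∣ 144 → cnt G m = 0 :=
    fun m t hm ht a b c => by
      have := totient_dvd_cnt (G := G) (m := m) (by omega)
      rw [ht] at this
      rcases hval m hm with h | h | h | h
      · exact h
      · exact absurd (h ▸ this) a
      · exact absurd (h ▸ this) b
      · exact absurd (h ▸ this) c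
  have hG2 : 2 ∣ Nat.card G := dvd_of_cnt (by omega)
  have hprimes : ∀ p, p.Prime → p ∣ Nat.card G → p ∈ ({2, 3, 5} : Finset ℕ) := fun p hp hd => by
    rcases hp.eq_two_or_odd with rfl | _
    · simp
    have h := cnt_prime_add hp hd
    have hp2 := hp.two_le
    have ht := totient_dvd_cnt (G := G) (m := p) hp.pos
    rw [Nat.totient_prime hp] at ht
    rcases hval p (by omega) with h0 | h0 | h0 | h0 <;> rw [h0] at h ht
    · exact absurd (Nat.dvd_one.1 h) hp.one_lt.ne'
    · have := Nat.le_of_dvd (by norm_num) h
      interval_cases p <;> first | (simp; done) | omega | (norm_num at hp)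
    · -- the prime 7
      have := Nat.le_of_dvd (by norm_num) h
      exfalso
      obtain rfl : p = 7 := by interval_cases p <;> first | (simp; done) | omega | (norm_num at hp)
      haveI := Fact.mk hp
      have h49 : cnt G 49 = 0 := hphi 49 42 (by norm_num) (by decide) (by norm_num) (by norm_num) (by norm_num)
      have h1 := ppart_dvd (l := 1) (G := G) hp (by norm_num; exact h49)
      simp [Finset.sum_range_succ, cnt_one, h0] at h1
      have hf : (Nat.card G).factorization 7 = 1 := by
        have := fact_pos_of_dvd (k := 1) hp (by simpa using hd)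
        by_contra hne
        have := (pow_dvd_pow 7 (by omega : 2 ≤ (Nat.card G).factorization 7)).trans h1
        norm_num at this
      obtain ⟨z, hz⟩ := cnt_pos_iff.1 (show cnt G 7 ≠ 0 by omega)
      have h14 := cnt_mul (G := G) (p := 7) (m := 2) hf (by norm_num) hz
      have hf14 := frob (G := G) (n := 14) ((by norm_num : Nat.Coprime 2 7).mul_dvd_of_dvd_of_dvd hG2 hd)
      rw [show Nat.divisors 14 = {1, 2, 7, 14} by decide] at hf14
      simp [cnt_one, h2, h0] at hf14
      rw [h0] at h14
      norm_num at h14
      rcases hval 14 (by norm_num) with e | e | e | e <;> omega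
    · have := Nat.le_of_dvd (by norm_num) h
      interval_cases p <;> first | (simp; done) | omega | (norm_num at hp)
  have hcard : Nat.card G = 2 ^ (Nat.card G).factorization 2 * (3 ^ (Nat.card G).factorization 3 *
      5 ^ (Nat.card G).factorization 5) := by
    have := eq_prod_of_primes Nat.card_pos.ne' hprimes
    rwa [Finset.prod_insert (by simp), Finset.prod_pair (by norm_num)] at this
  have h81 : cnt G 81 = 0 := hphi 81 54 (by norm_num) (by decide) (by norm_num) (by norm_num) (by norm_num)
  have h125 : cnt G 125 = 0 := hphi 125 100 (by norm_num) (by decide) (by norm_num) (by norm_num) (by norm_num)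
  have h3v : 3 ∣ Nat.card G → cnt G 3 = 80 := fun hd => by
    have := cnt_prime_add Nat.prime_three hd
    rcases hval 3 (by norm_num) with h | h | h | h <;> omega
  have h5v : 5 ∣ Nat.card G → cnt G 5 = 144 := fun hd => by
    have := cnt_prime_add Nat.prime_five hd
    have := totient_dvd_cnt (G := G) (m := 5) (by norm_num)
    rw [show Nat.totient 5 = 4 by decide] at this
    rcases hval 5 (by norm_num) with h | h | h | h <;> omega
  have h8v : cnt G 8 = 0 ∨ cnt G 8 = 80 ∨ cnt G 8 = 144 := by
    have := totient_dvd_cnt (G := G) (m := 8) (by norm_num)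
    rw [show Nat.totient 8 = 4 by decide] at this
    rcases hval 8 (by norm_num) with h | h | h | h <;> omega
  have h16v : cnt G 16 = 0 ∨ cnt G 16 = 80 ∨ cnt G 16 = 144 := by
    have := totient_dvd_cnt (G := G) (m := 16) (by norm_num)
    rw [show Nat.totient 16 = 8 by decide] at this
    rcases hval 16 (by norm_num) with h | h | h | h <;> omega
  have ha : (Nat.card G).factorization 2 ≤ 3 := by
    by_contra ha
    have hd : 16 ∣ Nat.card G := (pow_dvd_pow 2 (by omega : 4 ≤ _)).trans (Nat.ordProj_dvd (Nat.card G) 2)
    have h4 := frob (G := G) (n := 4) ((show 4 ∣ 16 by norm_num).trans hd)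
    have h16 := frob (G := G) hd
    rw [show Nat.divisors 4 = {1, 2, 4} by decide] at h4
    rw [show Nat.divisors 16 = {1, 2, 4, 8, 16} by decide] at h16
    simp [cnt_one, h2] at h4 h16
    rcases hval 4 (by norm_num) with a | a | a | a <;> rcases h8v with b | b | b <;>
      rcases h16v with c | c | c <;> omega
  have h25 : cnt G 25 = 0 := by
    by_contra hne
    have hv : cnt G 25 = 80 := by
      have := totient_dvd_cnt (G := G) (m := 25) (by norm_num)
      rw [show Nat.totient 25 = 20 by decide] at this
      rcases hval 25 (by norm_num) with h | h | h | h <;> omega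
    have hd := dvd_of_cnt hne
    have h5 := h5v ((show 5 ∣ 25 by norm_num).trans hd)
    have h := ppart_dvd (l := 2) (G := G) Nat.prime_five (by norm_num; exact h125)
    simp [Finset.sum_range_succ, cnt_one, h5, hv] at h
    have h2' := fact_pos_of_dvd (k := 2) Nat.prime_five hd
    have heq : (Nat.card G).factorization 5 = 2 := by
      by_contra hne'
      have := (pow_dvd_pow 5 (by omega : 3 ≤ (Nat.card G).factorization 5)).trans h
      norm_num at this
    have := cnt_cyclic_le (G := G) (p := 5) (k := 2) (j := 1) heq (by norm_num [hv]) le_rfl (by norm_num)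
    norm_num [h5, hv] at this
  have hc : (Nat.card G).factorization 5 ≤ 1 := by
    by_contra hc
    have h5 := h5v ((dvd_pow_self 5 (by omega)).trans (Nat.ordProj_dvd (Nat.card G) 5))
    have h := (pow_dvd_pow 5 (by omega : 2 ≤ (Nat.card G).factorization 5)).trans
      (ppart_dvd (l := 1) (G := G) Nat.prime_five (by norm_num; exact h25))
    simp [Finset.sum_range_succ, cnt_one, h5] at h
  have hsum := sum_values_le (G := G) {1, 45, 80, 90, 144} (fun v hv => hV.2 v hv) (by simp)
  simp at hsum
  have hord : ∀ g : G, ∃ i ≤ (Nat.card G).factorization 2, ∃ j ≤ (Nat.card G).factorization 3,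
      ∃ k ≤ (Nat.card G).factorization 5, orderOf g = 2 ^ i * (3 ^ j * 5 ^ k) := fun g => by
    have hd := orderOf_dvd_natCard g
    rw [hcard] at hd
    obtain ⟨u, v, hu, hv, e⟩ := exists_dvd_and_dvd_of_dvd_mul hd
    obtain ⟨v₁, v₂, hv₁, hv₂, rfl⟩ := exists_dvd_and_dvd_of_dvd_mul hv
    obtain ⟨i, hi, rfl⟩ := (Nat.dvd_prime_pow Nat.prime_two).1 hu
    obtain ⟨j, hj, rfl⟩ := (Nat.dvd_prime_pow Nat.prime_three).1 hv₁
    obtain ⟨k, hk, rfl⟩ := (Nat.dvd_prime_pow Nat.prime_five).1 hv₂
    exact ⟨i, hi, j, hj, k, hk, e⟩
  interval_cases hc' : (Nat.card G).factorization 5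
  · -- no element of order 5
    exfalso
    norm_num at hcard
    have hb : 4 ≤ (Nat.card G).factorization 3 := by
      by_contra hb
      have h1 := Nat.pow_le_pow_right (show 1 ≤ 3 by norm_num) (by omega : (Nat.card G).factorization 3 ≤ 3)
      have h1' := Nat.pow_le_pow_right (show 1 ≤ 2 by norm_num) ha
      have := Nat.mul_le_mul h1' h1
      omega
    have h3 := h3v ((dvd_pow_self 3 (by omega)).trans (Nat.ordProj_dvd (Nat.card G) 3))
    have h := ppart_dvd (l := 3) (G := G) Nat.prime_three (by norm_num; exact h81)
    simp [Finset.sum_range_succ, cnt_one, h3] at h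
    have h81' := (pow_dvd_pow 3 hb).trans h
    norm_num at h81'
    have v9 : cnt G 9 = 0 ∨ cnt G 9 = 90 ∨ cnt G 9 = 144 := by
      have := totient_dvd_cnt (G := G) (m := 9) (by norm_num)
      rw [show Nat.totient 9 = 6 by decide] at this
      rcases hval 9 (by norm_num) with h | h | h | h <;> omega
    have v27 : cnt G 27 = 0 ∨ cnt G 27 = 90 ∨ cnt G 27 = 144 := by
      have := totient_dvd_cnt (G := G) (m := 27) (by norm_num)
      rw [show Nat.totient 27 = 18 by decide] at this
      rcases hval 27 (by norm_num) with h | h | h | h <;> omega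
    have z9 : cnt G 9 = 0 := by rcases v9 with a | a | a <;> rcases v27 with b | b | b <;> omega
    have hb4 : (Nat.card G).factorization 3 = 4 := by
      by_contra hne
      have z27 : cnt G 27 = 0 := cnt_zero_of_dvd (by norm_num) z9
      rw [z9, z27] at h
      have := (pow_dvd_pow 3 (by omega : 5 ≤ (Nat.card G).factorization 3)).trans h
      norm_num at this
    have h162 := frob (G := G) (n := 162) (by
      rw [hcard, hb4]
      have : 1 ≤ (Nat.card G).factorization 2 := fact_pos_of_dvd (k := 1) Nat.prime_two (by simpa using hG2)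
      show 2 * 3 ^ 4 ∣ _
      exact mul_dvd_mul (dvd_pow_self 2 (by omega)) (dvd_refl _))
    rw [show Nat.divisors 162 = {1, 2, 3, 6, 9, 18, 27, 54, 81, 162} by decide] at h162
    simp [cnt_one, h2, h3, z9, cnt_zero_of_dvd (show 9 ∣ 18 by norm_num) z9,
      cnt_zero_of_dvd (show 9 ∣ 27 by norm_num) z9, cnt_zero_of_dvd (show 9 ∣ 54 by norm_num) z9,
      cnt_zero_of_dvd (show 9 ∣ 81 by norm_num) z9, cnt_zero_of_dvd (show 9 ∣ 162 by norm_num) z9] at h162
    rcases hval 6 (by norm_num) with a | a | a | a <;> omega
  · -- Sylow 5-subgroups of order 5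
    have hd5 : 5 ∣ Nat.card G := Nat.dvd_of_factorization_pos (by omega)
    have h5 := h5v hd5
    have hn5 : Nat.card (Sylow 5 G) = 36 := by
      have := card_sylow_prime (G := G) (p := 5) hc'; omega
    obtain ⟨y, hy⟩ := cnt_pos_iff.1 (show cnt G 5 ≠ 0 by omega)
    have h15 : cnt G 15 = 0 := by
      have h := cnt_mul (G := G) (p := 5) (m := 3) hc' (by norm_num) hy
      rw [h5] at h
      norm_num at h
      have := two_dvd_cnt (G := centralizer ({y} : Set G)) (m := 3) (by norm_num)
      rcases hval 15 (by norm_num) with e | e | e | e <;> omega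
    have h10 : cnt G 10 = 0 := by
      have h := cnt_mul (G := G) (p := 5) (m := 2) hc' (by norm_num) hy
      rw [h5] at h
      have hf := frob (G := G) (n := 10) ((by norm_num : Nat.Coprime 2 5).mul_dvd_of_dvd_of_dvd hG2 hd5)
      rw [show Nat.divisors 10 = {1, 2, 5, 10} by decide] at hf
      simp [cnt_one, h2, h5] at hf
      norm_num at h
      rcases hval 10 (by norm_num) with e | e | e | e <;> omega
    let P : Sylow 5 G := Sylow.ofCard (zpowers y) (by rw [Nat.card_zpowers, hy, hc', pow_one])
    set N := normalizer ((P : Subgroup G) : Set G) with hN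
    have hGN : Nat.card G = 36 * Nat.card N := by
      have h1 : Nat.card (Sylow 5 G) = N.index := Sylow.card_eq_index_normalizer P
      rw [← N.index_mul_card, ← h1, hn5]
    have hN3 : ¬ 3 ∣ Nat.card N := by
      intro hd
      obtain ⟨z, hz⟩ := exists_prime_orderOf_dvd_card' (G := N) 3 hd
      rw [← Subgroup.orderOf_coe] at hz
      have hzy : (z : G) * y * (z : G)⁻¹ ∈ zpowers y :=
        (Subgroup.mem_normalizer_iff.1 z.2 y).1 (mem_zpowers y)
      obtain ⟨i, hi', hi⟩ : ∃ i, i < 5 ∧ y ^ i = (z : G) * y * (z : G)⁻¹ := by
        rw [mem_zpowers_iff] at hzy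
        obtain ⟨k, hk⟩ := hzy
        refine ⟨(k % 5).toNat, ?_, ?_⟩
        · omega
        · rw [← hk, ← zpow_natCast, Int.toNat_of_nonneg (by omega), show (5 : ℤ) = orderOf y by rw [hy]; rfl,
            zpow_mod_orderOf]
      have hconj : ∀ n : ℕ, (z : G) ^ n * y * ((z : G) ^ n)⁻¹ = y ^ (i ^ n) := by
        intro n
        induction n with
        | zero => simp
        | succ n ih =>
          rw [pow_succ', pow_succ' i, pow_mul, hi, conj_pow, ← ih]
          group
      have h3' := hconj 3
      rw [show (z : G) ^ 3 = 1 by rw [← hz, pow_orderOf_eq_one], one_mul, inv_one, mul_one] at h3'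
      nth_rewrite 1 [← pow_one y] at h3'
      rw [pow_eq_pow_iff_modEq, hy, Nat.ModEq] at h3'
      have hi1 : i = 1 := by interval_cases i <;> first | rfl | (norm_num at h3')
      subst hi1
      have hcomm : Commute y (z : G) := by
        rw [pow_one] at hi
        calc y * z = (z : G) * y * (z : G)⁻¹ * z := by rw [← hi]
          _ = z * y := by group
      refine cnt_pos_iff.2 ⟨y * z, ?_⟩ h15
      rw [hcomm.orderOf_mul_eq_mul_orderOf_of_coprime (by rw [hy, hz]; norm_num), hy, hz]
    have hb : (Nat.card G).factorization 3 = 2 := by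
      rw [hGN, Nat.factorization_mul (by norm_num) Nat.card_pos.ne', Finsupp.add_apply,
        Nat.factorization_eq_zero_of_not_dvd hN3, show (36 : ℕ) = 3 ^ 2 * 4 by norm_num,
        Nat.factorization_mul (by norm_num) (by norm_num), Finsupp.add_apply, Nat.Prime.factorization_pow Nat.prime_three,
        Finsupp.single_eq_same, Nat.factorization_eq_zero_of_not_dvd (show ¬ 3 ∣ 4 by norm_num)]
    rw [hb] at hcard
    norm_num at hcard
    have ha3 : (Nat.card G).factorization 2 = 3 := by
      by_contra hne
      have := Nat.pow_le_pow_right (show 1 ≤ 2 by norm_num) (by omega : (Nat.card G).factorization 2 ≤ 2)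
      omega
    rw [ha3] at hcard
    norm_num at hcard
    have h3 := h3v (by omega)
    have h4 : cnt G 4 = 90 := by
      have hf := frob (G := G) (n := 4) (by omega)
      rw [show Nat.divisors 4 = {1, 2, 4} by decide] at hf
      simp [cnt_one, h2] at hf
      rcases hval 4 (by norm_num) with e | e | e | e <;> omega
    have h9 : cnt G 9 = 0 := by
      by_contra hne
      have := cnt_cyclic_le (G := G) (p := 3) (k := 2) (j := 1) hb (by norm_num [hne]) le_rfl (by norm_num)
      norm_num [h3] at this
      have h144 : cnt G 9 ≤ 144 := by rcases hval 9 (by norm_num) with e | e | e | e <;> omega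
      omega
    have hT : ∀ g : G, orderOf g ∈ ({1, 2, 3, 4, 5, 6, 8, 12, 24} : Finset ℕ) := fun g => by
      obtain ⟨i, hi, j, hj, k, hk, e⟩ := hord g
      have hne : cnt G (orderOf g) ≠ 0 := cnt_pos_iff.2 ⟨g, rfl⟩
      rw [ha3] at hi
      rw [hb] at hj
      rw [e] at hne ⊢
      interval_cases i <;> interval_cases j <;> interval_cases k <;>
        simp only [Finset.mem_insert, Finset.mem_singleton] <;>
        first
          | (norm_num; done)
          | (exfalso; refine hne (cnt_zero_of_dvd ?_ h9); norm_num; done)
          | (exfalso; refine hne (cnt_zero_of_dvd ?_ h10); norm_num; done)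
          | (exfalso; refine hne (cnt_zero_of_dvd ?_ h15); norm_num; done)
    have htot := card_eq_sum_of _ hT
    simp [cnt_one, h2, h3, h4, h5] at htot
    have hall : ∀ g : G, orderOf g ∈ ({1, 2, 3, 4, 5} : Finset ℕ) := fun g => by
      have hne : cnt G (orderOf g) ≠ 0 := cnt_pos_iff.2 ⟨g, rfl⟩
      have := hT g
      simp only [Finset.mem_insert, Finset.mem_singleton] at this ⊢
      rcases this with e | e | e | e | e | e | e | e | e <;> rw [e] at hne ⊢ <;> omega
    haveI : Nontrivial G := Finite.one_lt_card_iff_nontrivial.1 (by omega)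
    haveI : IsSimpleGroup G := ⟨fun K hK => by
      haveI := hK
      by_cases h5K : 5 ∣ Nat.card K
      · right
        have hQ : ∀ Q : Sylow 5 G, (Q : Subgroup G) ≤ K := fun Q => by
          have hf : (Nat.card K).factorization 5 = 1 := by
            refine le_antisymm ?_ ((Nat.prime_five.pow_dvd_iff_le_factorization (k := 1) Nat.card_pos.ne').1 (by simpa using h5K))
            exact hc' ▸ (Nat.factorization_le_iff_dvd Nat.card_pos.ne' Nat.card_pos.ne').2 K.card_subgroup_dvd_card 5
          obtain ⟨R, hR⟩ := exists_prime_orderOf_dvd_card' (G := K) 5 h5K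
          obtain ⟨R', hR'⟩ := (IsPGroup.of_card (n := 1) (G := zpowers (R : G)) (by rw [Nat.card_zpowers, Subgroup.orderOf_coe, hR, pow_one])).exists_le_sylow
          have hR'K : (R' : Subgroup G) ≤ K := by
            rw [← Subgroup.eq_of_le_of_card_ge hR' (by
              rw [Nat.card_zpowers, Subgroup.orderOf_coe, hR, R'.card_eq_multiplicity, hc', pow_one])]
            exact zpowers_le.2 R.2
          obtain ⟨g, rfl⟩ := MulAction.exists_smul_eq G R' Q
          intro x hx
          rw [Sylow.smul_def] at hx
          obtain ⟨w, hw, rfl⟩ := hx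
          exact hK.conj_mem w (hR'K hw) g
        have h36 : 36 ∣ Nat.card K := by
          have e : Nat.card (Sylow 5 K) = 36 := by
            rw [← hn5]
            exact Nat.card_congr
              { toFun := fun R => Classical.choose (R.isPGroup'.map K.subtype).exists_le_sylow
                invFun := fun Q => Q.subtype (hQ Q)
                left_inv := fun R => by
                  apply Sylow.ext
                  have := Classical.choose_spec (R.isPGroup'.map K.subtype).exists_le_sylow
                  refine (R.is_maximal' (Sylow.isPGroup' _) ?_)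
                  intro x hx
                  exact this ⟨x, hx, rfl⟩
                right_inv := fun Q => by
                  apply Sylow.ext
                  have := Classical.choose_spec ((Q.subtype (hQ Q)).isPGroup'.map K.subtype).exists_le_sylow
                  refine (Q.is_maximal' (Sylow.isPGroup' _) ?_)
                  intro x hx
                  exact this ⟨⟨x, hQ Q hx⟩, hx, rfl⟩ }
          rw [← e, Sylow.card_eq_index_normalizer (default : Sylow 5 K)]
          exact Subgroup.index_dvd_card _
        have h180 : 180 ∣ Nat.card K := (by norm_num : Nat.Coprime 36 5).mul_dvd_of_dvd_of_dvd h36 h5K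
        by_contra hne
        have hcK : Nat.card K = 180 := by
          have hd := K.card_subgroup_dvd_card
          rw [hcard] at hd
          have := Nat.le_of_dvd (by norm_num) hd
          have hpos : 0 < Nat.card K := Nat.card_pos
          have hne' : Nat.card K ≠ 360 := fun e => hne (Subgroup.card_eq_iff_eq_top K |>.1 (e.trans hcard.symm))
          omega
        have hidx : K.index = 2 := by
          have := K.index_mul_card; rw [hcard, hcK] at this; omega
        have hmem : ∀ g : G, orderOf g = 3 ∨ orderOf g = 5 → g ∈ K := fun g hg => by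
          have h1 : g ^ 2 ∈ K := by rw [← hidx]; exact K.pow_index_mem g
          have h2' : g ^ orderOf g = 1 := pow_orderOf_eq_one g
          rcases hg with e | e <;> rw [e] at h2'
          · have : g = g ^ 2 * g ^ 2 := by rw [← pow_add, show (2 + 2) = 3 + 1 by norm_num, pow_succ, h2', one_mul]
            rw [this]; exact mul_mem h1 h1
          · have : g = g ^ 2 * g ^ 2 * g ^ 2 := by
              rw [← pow_add, ← pow_add, show (2 + 2 + 2) = 5 + 1 by norm_num, pow_succ, h2', one_mul]
            rw [this]; exact mul_mem (mul_mem h1 h1) h1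
        let e : {g : G // orderOf g = 3} ⊕ {g : G // orderOf g = 5} → K :=
          Sum.elim (fun g => ⟨g.1, hmem _ (Or.inl g.2)⟩) (fun g => ⟨g.1, hmem _ (Or.inr g.2)⟩)
        have hinj : Function.Injective e := by
          rintro (a | a) (b | b) h <;> have h' := congrArg Subtype.val h <;> simp [e] at h'
          · exact congrArg Sum.inl (Subtype.ext h')
          · exact absurd (a.2.symm.trans (h' ▸ b.2)) (by norm_num)
          · exact absurd (a.2.symm.trans (h' ▸ b.2)) (by norm_num)
          · exact congrArg Sum.inr (Subtype.ext h')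
        have := Nat.card_le_card_of_injective e hinj
        rw [Nat.card_sum, hcK] at this
        simp only [cnt] at h3 h5
        omega
      · left
        -- an element of order 5 acts on `K` without fixed points
        have hfix : ∀ X : Set G, X ⊆ K → (1 : G) ∈ X → (∀ x ∈ X, y * x * y⁻¹ ∈ X) → Nat.card X % 5 = 1 := by
          intro X hXK h1X hX
          have hsmul : ∀ g ∈ zpowers y, ∀ x ∈ X, g * x * g⁻¹ ∈ X := by
            intro g hg x hx
            obtain ⟨n, rfl⟩ : ∃ n : ℕ, y ^ n = g := by
              obtain ⟨k, hk⟩ := mem_zpowers_iff.1 hg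
              refine ⟨(k % (orderOf y : ℤ)).toNat, ?_⟩
              rw [← zpow_natCast, Int.toNat_of_nonneg (Int.emod_nonneg _ (by simpa using (orderOf_pos y).ne')),
                zpow_mod_orderOf, hk]
            clear hg
            induction n with
            | zero => simpa using hx
            | succ n ih =>
              rw [pow_succ', show y * y ^ n * x * (y * y ^ n)⁻¹ = y * (y ^ n * x * (y ^ n)⁻¹) * y⁻¹ by group]
              exact hX _ ih
          letI : MulAction (zpowers y) X :=
            { smul := fun g x => ⟨g * x * (g : G)⁻¹, hsmul g g.2 x x.2⟩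
              one_smul := fun x => Subtype.ext (by show (1 : G) * x * (1 : G)⁻¹ = x; simp)
              mul_smul := fun g g' x => Subtype.ext (by
                show ((g * g' : zpowers y) : G) * x * ((g * g' : zpowers y) : G)⁻¹ = g * (g' * x * (g' : G)⁻¹) * (g : G)⁻¹
                rw [Subgroup.coe_mul]; group) }
          have hp : IsPGroup 5 (zpowers y) := IsPGroup.of_card (n := 1) (by rw [Nat.card_zpowers, hy, pow_one])
          have hmod := hp.card_modEq_card_fixedPoints X
          have hone : Nat.card (MulAction.fixedPoints (zpowers y) X) = 1 := by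
            refine Nat.card_eq_one_iff_unique.2 ⟨⟨fun a b => ?_⟩, ⟨⟨⟨1, h1X⟩, fun g => Subtype.ext ?_⟩⟩⟩
            · suffices ∀ a : MulAction.fixedPoints (zpowers y) X, ((a : X) : G) = 1 from
                Subtype.ext (Subtype.ext ((this a).trans (this b).symm))
              intro a
              by_contra hne
              have hca : Commute y ((a : X) : G) := by
                have := congrArg Subtype.val (a.2 ⟨y, mem_zpowers y⟩)
                exact mul_inv_eq_iff_eq_mul.1 this
              have hord := hall ((a : X) : G)
              have hordy := hall (y * (a : X))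
              have h5' : ¬ 5 ∣ orderOf ((a : X) : G) := fun h =>
                h5K (h.trans (by
                  have := orderOf_dvd_natCard (⟨_, hXK (a : X).2⟩ : K)
                  rwa [Subgroup.orderOf_mk] at this))
              simp only [Finset.mem_insert, Finset.mem_singleton] at hord hordy
              have h1 : orderOf ((a : X) : G) ≠ 1 := fun h => hne (orderOf_eq_one_iff.1 h)
              rw [hca.orderOf_mul_eq_mul_orderOf_of_coprime (by
                rw [hy]; exact (Nat.prime_five.coprime_iff_not_dvd).2 h5'), hy] at hordy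
              omega
            · show (g : G) * 1 * (g : G)⁻¹ = 1
              group
          rw [hone] at hmod
          exact hmod
        have hK5 : Nat.card K % 5 = 1 := hfix (K : Set G) subset_rfl (one_mem _)
          (fun x hx => hK.conj_mem x hx y)
        have hdK : Nat.card K ∣ 72 := by
          refine Nat.Coprime.dvd_of_dvd_mul_right (Nat.prime_five.coprime_iff_not_dvd.2 h5K).symm ?_
          rw [show 72 * 5 = 360 by norm_num, ← hcard]
          exact K.card_subgroup_dvd_card
        have hK36 : Nat.card K ≠ 36 := by
          intro h36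
          have hmem : ∀ g : G, orderOf g = 3 → g ∈ K := fun g hg => by
            have h1 : g ^ K.index ∈ K := K.pow_index_mem g
            have hi : K.index = 10 := by have := K.index_mul_card; rw [hcard, h36] at this; omega
            rw [hi, show 10 = 3 * 3 + 1 by norm_num, pow_succ, pow_mul, ← hg, pow_orderOf_eq_one, one_pow, one_mul] at h1
            exact h1
          have := Nat.card_le_card_of_injective (fun g : {g : G // orderOf g = 3} => (⟨g.1, hmem _ g.2⟩ : K))
            (fun a b h => Subtype.ext (congrArg Subtype.val h :))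
          simp only [cnt] at h3
          omega
        have hK6 : Nat.card K ≠ 6 := by
          intro h6
          let X : Set G := {x | x ∈ K ∧ x ^ 2 = 1}
          have hX := hfix X (fun x hx => hx.1) ⟨one_mem _, one_pow 2⟩ (fun x hx =>
            ⟨hK.conj_mem x hx.1 y, by rw [conj_pow, hx.2, mul_one, mul_inv_cancel]⟩)
          have hX' : Nat.card X = Nat.card {x : K // x ^ 2 = 1} := Nat.card_congr
            { toFun := fun x => ⟨⟨x.1, x.2.1⟩, Subtype.ext x.2.2⟩
              invFun := fun x => ⟨x.1.1, x.1.2, congrArg Subtype.val x.2⟩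
              left_inv := fun _ => rfl
              right_inv := fun _ => rfl }
          have hfr := CfsgLib.FrobCount.frobenius (G := K) (n := 2) (by omega)
          obtain ⟨w, hw⟩ := exists_prime_orderOf_dvd_card' (G := K) 3 (by omega)
          have hlt : Nat.card {x : K // x ^ 2 = 1} < 6 := by
            refine lt_of_le_of_ne (h6 ▸ Nat.card_le_card_of_injective _ Subtype.val_injective) fun e => ?_
            have hbij := (Function.Injective.bijective_of_nat_card_le (f := (Subtype.val : {x : K // x ^ 2 = 1} → K))
              Subtype.val_injective (by omega))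
            obtain ⟨⟨x, hx⟩, rfl⟩ := hbij.2 w
            have := orderOf_dvd_of_pow_eq_one hx
            rw [show orderOf x = 3 from hw] at this
            omega
          omega
        have hle := Nat.le_of_dvd (by norm_num) hdK
        refine Subgroup.card_eq_one.1 ?_
        have hpos : 0 < Nat.card K := Nat.card_pos
        interval_cases hk : Nat.card K <;> first | rfl | omega | (norm_num at hdK)⟩
    exact CfsgLib.InvChar.iso_alternatingSix hcard

end CfsgLib.Nse
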